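import Groth.Agent.Lib.Flat55.FibrewiseStalk
import Groth.Prelude.Def_MoreMor
import Groth.Agent.H19.FlatLocus.Scheme
import Groth.Agent.Lib.Exchange.Fibre
import Mathlib.AlgebraicGeometry.Morphisms.FlatMono
import Groth.Agent.S2803

/-!
# A morphism of proper schemes over a local scheme which is an isomorphism on the closed fibre (helper92)

If the source is flat over the base then such a morphism is an isomorphism.
-/

universe u

open CategoryTheory CategoryTheory.Limits AlgebraicGeometry

namespace Groth.Agent.PD92.ClosedFibreIso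

variable {A : Type u} [CommRing A] [IsLocalRing A] [IsNoetherianRing A]

/-- An open set containing the closed fibre of a proper scheme over a local scheme is everything. -/
theorem eq_top {Z : Scheme.{u}} (π : Z ⟶ Spec (CommRingCat.of A)) [IsProper π] (O : Z.Opens)
    (h : ∀ z, π z = IsLocalRing.closedPoint A → z ∈ O) : O = ⊤ := by
  refine eq_top_iff.2 fun z _ => ?_
  by_contra hz
  obtain ⟨z', hz', hz's⟩ := (IsLocalRing.specializes_closedPoint (R := A) (π z)).mem_closed
    (π.isClosedMap _ O.2.isClosed_compl) ⟨z, hz, rfl⟩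
  exact hz' (h z' hz's)

variable {X P F P₀ : Scheme.{u}} (q : X ⟶ Spec (CommRingCat.of A)) (π : P ⟶ Spec (CommRingCat.of A))
  (j : X ⟶ P) (g : F ⟶ X) (i₀ : F ⟶ P₀) (c : P₀ ⟶ P)
  (r : P₀ ⟶ Spec (CommRingCat.of (IsLocalRing.closedPoint A).asIdeal.ResidueField))
  (hc : IsPullback c r π
    (Spec.map (CommRingCat.ofHom (algebraMap A (IsLocalRing.closedPoint A).asIdeal.ResidueField))))
  (hb : IsPullback g i₀ j c)

include hc in
theorem exists_iso_fiber : ∃ t : π.fiber (IsLocalRing.closedPoint A) ⟶ P₀,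
    IsIso t ∧ t ≫ c = π.fiberι (IsLocalRing.closedPoint A) :=
  ⟨((ZarCoh.Exchange.Fibre.isPullback_fiber π _).isoIsPullback _ _ hc).hom, inferInstance,
    (ZarCoh.Exchange.Fibre.isPullback_fiber π _).isoIsPullback_hom_fst _ _ hc⟩

include hc hb in
theorem isIso_fiberMap [IsIso i₀] :
    IsIso (MoreMor.fiberMap j π (IsLocalRing.closedPoint A)) := by
  obtain ⟨t, ht, htc⟩ := exists_iso_fiber π c r hc
  have h1 : IsPullback ((j ≫ π).fiberι (IsLocalRing.closedPoint A))
      (MoreMor.fiberMap j π (IsLocalRing.closedPoint A)) j (π.fiberι (IsLocalRing.closedPoint A)) := by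
    refine IsPullback.of_bot ?_
      (Groth.Agent.Lib.Flat55.FibrewiseStalk.fiberMap_fiberι j π _).symm
      (IsPullback.of_hasPullback π ((Spec (CommRingCat.of A)).fromSpecResidueField _))
    have h : MoreMor.fiberMap j π (IsLocalRing.closedPoint A) ≫
        π.fiberToSpecResidueField (IsLocalRing.closedPoint A) =
        (j ≫ π).fiberToSpecResidueField (IsLocalRing.closedPoint A) := pullback.lift_snd _ _ _
    exact (congrArg (fun v => IsPullback ((j ≫ π).fiberι (IsLocalRing.closedPoint A)) v (j ≫ π)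
      ((Spec (CommRingCat.of A)).fromSpecResidueField (IsLocalRing.closedPoint A))) h).mpr
      (IsPullback.of_hasPullback (j ≫ π) ((Spec (CommRingCat.of A)).fromSpecResidueField _))
  rw [← htc] at h1
  have h2 : IsPullback (t ≫ inv i₀ ≫ g) (𝟙 _) j (t ≫ c) := by
    have h3 : IsPullback (t ≫ inv i₀) (𝟙 _) i₀ t := IsPullback.of_vert_isIso ⟨by simp⟩
    simpa [Category.assoc] using h3.paste_horiz hb
  rw [← h1.isoIsPullback_hom_snd _ _ h2, Category.comp_id]
  infer_instance

include hc hb in
/-- **Isomorphism from the closed fibre.** -/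
theorem isIso_of_closedFibre (w : j ≫ π = q) [IsProper q] [Flat q] [IsProper π] [IsIso i₀] :
    IsIso j := by
  subst w
  haveI : IsProper j := IsProper.of_comp j π
  haveI : LocallyOfFinitePresentation (j ≫ π) :=
    LocallyOfFinitePresentation.iff_locallyOfFiniteType.2 inferInstance
  haveI : IsLocallyNoetherian P := LocallyOfFiniteType.isLocallyNoetherian π
  haveI : IsLocallyNoetherian X := LocallyOfFiniteType.isLocallyNoetherian j
  haveI : LocallyOfFinitePresentation j :=
    LocallyOfFinitePresentation.iff_locallyOfFiniteType.2 inferInstance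
  obtain ⟨t, ht, htc⟩ := exists_iso_fiber π c r hc
  have hfac : ∀ z : P, π z = IsLocalRing.closedPoint A → ∃ z₀ : P₀, c z₀ = z := fun z hz => by
    obtain ⟨v, hv⟩ : z ∈ Set.range (π.fiberι (IsLocalRing.closedPoint A)) :=
      (π.range_fiberι _).ge hz
    exact ⟨t v, (congr($htc v)).trans hv⟩
  haveI : IsPreimmersion c := by
    rw [show c = inv t ≫ π.fiberι _ from (IsIso.eq_inv_comp t).2 htc]
    infer_instance
  -- closed immersion
  haveI : IsClosedImmersion j := by
    have hloc : ∀ z : P, π z = IsLocalRing.closedPoint A →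
        ∃ U : P.Opens, z ∈ U ∧ IsClosedImmersion (j ∣_ U) := fun z hz => by
      obtain ⟨z₀, rfl⟩ := hfac z hz
      refine (Groth.Agent.S2803.result j (c z₀)).2 ⟨Or.inr ?_, ⟨⊤, trivial, inferInstance⟩⟩
      haveI : IsIso (c.residueFieldMap z₀) := by
        refine (ConcreteCategory.isIso_iff_bijective _).2 ⟨RingHom.injective _, fun b => ?_⟩
        obtain ⟨b, rfl⟩ := Scheme.residue_surjective _ _ b
        obtain ⟨d, rfl⟩ := c.stalkMap_surjective z₀ b
        exact ⟨P.residue _ d, congr($(Scheme.residue_residueFieldMap c z₀) d)⟩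
      obtain ⟨m, hm, hfib⟩ : ∃ m : i₀.fiber z₀ ⟶ j.fiber (c z₀), IsIso m ∧
          IsPullback m (i₀.fiberToSpecResidueField z₀) (j.fiberToSpecResidueField (c z₀))
            (Spec.map (c.residueFieldMap z₀)) :=
        ⟨_, (isPullback_fiberToSpecResidueField_of_isPullback hb z₀).isIso_fst_of_isIso,
          isPullback_fiberToSpecResidueField_of_isPullback hb z₀⟩
      haveI : IsIso (i₀.fiberToSpecResidueField z₀) := MorphismProperty.pullback_snd
        (P := MorphismProperty.isomorphisms Scheme) _ _ (inferInstanceAs (IsIso i₀))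
      rw [show j.fiberToSpecResidueField (c z₀) =
        inv m ≫ i₀.fiberToSpecResidueField z₀ ≫ Spec.map (c.residueFieldMap z₀) from
          (IsIso.eq_inv_comp m).2 hfib.w]
      infer_instance
    choose U hzU hU using hloc
    let ι := {z : P // π z = IsLocalRing.closedPoint A}
    have htop : (⨆ z : ι, U z.1 z.2) = ⊤ := eq_top π _ fun z hz =>
      TopologicalSpace.Opens.mem_iSup.2 ⟨⟨z, hz⟩, hzU z hz⟩
    exact IsZariskiLocalAtTarget.of_iSup_eq_top (P := @IsClosedImmersion) (fun z : ι => U z.1 z.2)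
      htop fun z => hU z.1 z.2
  -- flat
  haveI : Flat j := by
    let O : X.Opens := ⟨{x | (j.stalkMap x).hom.Flat},
      Groth.Agent.H19.FlatLocus.Scheme.isOpen_flat_stalkMap j⟩
    have hO : O = ⊤ := eq_top (j ≫ π) O fun x hx => by
      refine (Groth.Agent.Lib.Flat55.FibrewiseStalk.flat_stalkMap_of_fibreStalkMap j π x
        (Flat.stalkMap (j ≫ π) x) ?_).1
      obtain ⟨a, ha⟩ : x ∈ Set.range ((j ≫ π).fiberι (IsLocalRing.closedPoint A)) :=
        ((j ≫ π).range_fiberι _).ge hx
      refine (Groth.Agent.Lib.Flat55.FibrewiseStalk.flat_fiberMap_iff j π _ a x ha).1 ?_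
      haveI := isIso_fiberMap π j g i₀ c r hc hb
      exact RingHom.Flat.of_bijective (ConcreteCategory.bijective_of_isIso
        ((MoreMor.fiberMap j π (IsLocalRing.closedPoint A)).stalkMap a))
    exact Flat.of_stalkMap j fun x => (hO.ge trivial : x ∈ O)
  haveI := IsOpenImmersion.of_flat_of_mono j
  refine (isIso_iff_isOpenImmersion_and_surjective j).2 ⟨inferInstance, ⟨fun z => ?_⟩⟩
  have h : j.opensRange = ⊤ := eq_top π _ fun z hz => by
    obtain ⟨z₀, rfl⟩ := hfac z hz
    exact ⟨g (inv i₀ z₀), (congr($(hb.w) (inv i₀ z₀))).trans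
      (congrArg c (congr($(IsIso.inv_hom_id i₀) z₀)))⟩
  exact (h.ge trivial : z ∈ j.opensRange)

end Groth.Agent.PD92.ClosedFibreIso
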