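import Groth.Agent.PD92.ClosedFibreIso
import Groth.Agent.S11763
import Groth.Agent.Lib.Exchange.VeryAmpleNhd
import Groth.Agent.Lib.ProperFin.ProjFacts
import Groth.Agent.Lib.ZarCoh.FlatBC.Equiv
import Groth.Agent.Lib.SqZeroLift.Criteria

/-!
# Deformations of projective space are trivial (helper92)

A proper flat scheme over a complete Noetherian local ring whose closed fibre is `P^r` is `P^r`.
-/

set_option autoImplicit false
set_option linter.style.haveILetI false
set_option maxHeartbeats 1000000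
universe u

open CategoryTheory CategoryTheory.Limits AlgebraicGeometry Opposite TopologicalSpace

namespace Groth.Agent.PD92.ProjDeform

open Groth.Agent.Lib Groth.Agent.Lib.TensorMod Groth.Agent.Lib.TensorMod.Gen
open Groth.Agent.Lib.ProjMor Groth.Agent.Lib.ProjMor.Sec Groth.Agent.Lib.Ample.GenLocus
open Groth.Agent.Lib.ProjSpace.BaseChange ZarCoh.Exchange ZarCoh.Exchange.VeryAmpleNear

noncomputable section

/-- Twists with `d ≥ -r` have no higher cohomology on a scheme isomorphic to `P^r_K`. -/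
theorem subsingleton_HH_twist {K : Type u} [Field K] (r : ℕ) {X' : Scheme.{u}}
    (v : X' ⟶ CohB1.ProjSpace r K) [IsIso v] {d : ℤ} (hd : -(r : ℤ) ≤ d) {q : ℕ} (hq : q ≠ 0) :
    Subsingleton (Coh.HH X' ((Scheme.Modules.pullback v).obj (ProjCoh.Coherent.tw r K d)) q) := by
  letI : (CohB1.ProjSpace r K).Over (Spec (CommRingCat.of K)) := ⟨CohB1.ProjSpace.toSpec r K⟩
  letI : X'.Over (Spec (CommRingCat.of K)) := ⟨v ≫ CohB1.ProjSpace.toSpec r K⟩
  haveI : IsProper (CohB1.ProjSpace.toSpec r K) := ProjSpace.Basic.isProper_toSpec r K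
  haveI : CompactSpace (CohB1.ProjSpace r K) :=
    QuasiCompact.compactSpace_of_compactSpace (CohB1.ProjSpace.toSpec r K)
  haveI : (CohB1.ProjSpace r K).IsSeparated := ⟨by
    rw [← terminal.comp_from (CohB1.ProjSpace.toSpec r K)]; infer_instance⟩
  have h1 : Spec.map (CommRingCat.ofHom (algebraMap K K)) = 𝟙 (Spec (CommRingCat.of K)) := by
    rw [show algebraMap K K = RingHom.id K from rfl]
    exact Spec.map_id _
  haveI : IsIso (Spec.map (CommRingCat.ofHom (algebraMap K K))) := by rw [h1]; infer_instance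
  have hsq : IsPullback v (X' ↘ Spec (CommRingCat.of K))
      (CohB1.ProjSpace r K ↘ Spec (CommRingCat.of K)) (Spec.map (CommRingCat.ofHom (algebraMap K K))) :=
    IsPullback.of_horiz_isIso ⟨by rw [h1, Category.comp_id]; rfl⟩
  haveI := TensorMod.QCohInv.isQCoh_of_isInvertible
    (ProjCoh.Coherent.isInvertible_tw (n := r) (R := K) d)
  obtain ⟨E⟩ := ZarCoh.FlatBC.Equiv.nonempty_linearEquiv hsq (ProjCoh.Coherent.tw r K d) q
  haveI : Subsingleton (Coh.HH (CohB1.ProjSpace r K) (ProjCoh.Coherent.tw r K d) q) :=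
    Groth.Agent.Lib.SqZeroLift.Criteria.subsingleton_HH_of_iso (ProjCoh.Coherent.twIso d).symm
      (ProjCoh.Twist.subsingleton_HH_of_neg_le r K hd hq)
  exact E.toEquiv.symm.subsingleton

/-- A morphism to `P^r` given by lifted sections restricts to the given one. -/
theorem comp_eq_of_sections {W F : Scheme.{u}} (g : F ⟶ W) (r : ℕ) (M : W.Modules)
    (ρ : W ⟶ CohB1.ProjSpace r (ULift.{u} ℤ)) (ρ₀ : F ⟶ CohB1.ProjSpace r (ULift.{u} ℤ))
    (t : Fin (r + 1) → ProjUP.Γm M)
    (τ : (Scheme.Modules.pullback ρ).obj (Twist.twistProjSpace r (ULift.{u} ℤ) 1) ≅ M)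
    (hτ : ∀ m, τ.hom.app ⊤ (ProjUP.pullSec ρ (Twist.twistProjSpace r (ULift.{u} ℤ) 1)
      (ProjUP.coord r (ULift.{u} ℤ) m)) = t m)
    (φ : (Scheme.Modules.pullback g).obj M ≅
      (Scheme.Modules.pullback ρ₀).obj (Twist.twistProjSpace r (ULift.{u} ℤ) 1))
    (hφ : ∀ m, φ.hom.app ⊤ (ProjUP.pullSec g M (t m)) =
      ProjUP.pullSec ρ₀ _ (ProjUP.coord r (ULift.{u} ℤ) m)) : g ≫ ρ = ρ₀ := by
  let Z : Type u := ULift.{u} ℤ
  let O1 := Twist.twistProjSpace r Z 1
  refine Poly.eq_of_iso r Z (g ≫ ρ) _ (specULiftZIsTerminal.hom_ext _ _)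
    (((Scheme.Modules.pullbackComp g ρ).app O1).symm ≪≫
      (Scheme.Modules.pullback g).mapIso τ ≪≫ φ) fun m => ?_
  have h1 : ((Scheme.Modules.pullbackComp g ρ).hom.app O1).app ⊤
      (ProjUP.pullSec g _ (ProjUP.pullSec ρ O1 (ProjUP.coord r Z m))) =
        ProjUP.pullSec (g ≫ ρ) O1 (ProjUP.coord r Z m) :=
    CohDelta.Units.comp_eta g ρ O1 ⊤ _
  rw [← h1, ← hφ m, ← hτ m]
  simp only [Iso.trans_hom, Scheme.Modules.Hom.comp_app, ConcreteCategory.comp_apply]
  refine congrArg (φ.hom.app ⊤) ?_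
  refine (congrArg ((((Scheme.Modules.pullback g).mapIso τ).hom).app ⊤) ?_).trans
    (TensorMod.Pullback.unitSec_natural g τ.hom (U := ⊤) _).symm
  rw [← ConcreteCategory.comp_apply, ← Scheme.Modules.Hom.comp_app]
  have h2 : (Scheme.Modules.pullbackComp g ρ).hom.app O1 ≫
      ((Scheme.Modules.pullbackComp g ρ).app O1).symm.hom = 𝟙 _ :=
    (Scheme.Modules.pullbackComp g ρ).hom_inv_id_app O1
  rw [h2]
  rfl

/-- Sections which restrict to the coordinates of the closed fibre generate. -/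
theorem exists_mem_locus {X F : Scheme.{u}} (g : F ⟶ X) (r : ℕ) (M : X.Modules) (hM : PicF.IsInvertible M)
    (ρ₀ : F ⟶ CohB1.ProjSpace r (ULift.{u} ℤ)) (t : Fin (r + 1) → ProjUP.Γm M)
    (φ : (Scheme.Modules.pullback g).obj M ≅
      (Scheme.Modules.pullback ρ₀).obj (Twist.twistProjSpace r (ULift.{u} ℤ) 1))
    (hφ : ∀ m, φ.hom.app ⊤ (ProjUP.pullSec g M (t m)) =
      ProjUP.pullSec ρ₀ _ (ProjUP.coord r (ULift.{u} ℤ) m)) (z' : F) :
    g z' ∈ ⨆ m, locus (t m) := by
  let Z : Type u := ULift.{u} ℤ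
  have hcov : ρ₀ z' ∈ ⨆ m, Proj.basicOpen (CohB1.polyGrading r Z) (MvPolynomial.X m) :=
    (ProjSpace.Basic.iSup_basicOpen_X_eq_top r Z).ge trivial
  obtain ⟨m, hm⟩ := Opens.mem_iSup.1 hcov
  refine Opens.mem_iSup.2 ⟨m, ?_⟩
  show z' ∈ g ⁻¹ᵁ locus (t m)
  rw [← locus_pullback hM, ← locus_iso φ, hφ m, locus_pullback (isInvertible_O1 r)]
  exact (Frame.locus_g (Main.cover (Poly.lin_mem r Z) (Poly.adjoin_lin r Z))
    ⟨MvPolynomial.X m, MvPolynomial.isHomogeneous_X Z m⟩).ge hm

variable {A : Type u} [CommRing A] [IsLocalRing A] [IsNoetherianRing A]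
  [IsAdicComplete (IsLocalRing.maximalIdeal A) A]

/-- The map from the residue field to the residue field at the closed point. -/
def toK : IsLocalRing.ResidueField A →+* (IsLocalRing.closedPoint A).asIdeal.ResidueField :=
  algebraMap (A ⧸ IsLocalRing.maximalIdeal A) (IsLocalRing.maximalIdeal A).ResidueField

omit [IsNoetherianRing A] [IsAdicComplete (IsLocalRing.maximalIdeal A) A] in
theorem isIso_SpecMap_toK : IsIso (Spec.map (CommRingCat.ofHom (toK (A := A)))) := by
  haveI : IsIso (CommRingCat.ofHom (toK (A := A))) :=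
    (ConcreteCategory.isIso_iff_bijective _).mpr (Ideal.bijective_algebraMap_quotient_residueField _)
  infer_instance

omit [IsNoetherianRing A] [IsAdicComplete (IsLocalRing.maximalIdeal A) A] in
theorem SpecMap_toK_comp : Spec.map (CommRingCat.ofHom (toK (A := A))) ≫
    Spec.map (CommRingCat.ofHom (IsLocalRing.residue A)) =
      Spec.map (CommRingCat.ofHom (algebraMap A (IsLocalRing.closedPoint A).asIdeal.ResidueField)) := by
  rw [← Spec.map_comp]
  rfl

omit [IsNoetherianRing A] [IsAdicComplete (IsLocalRing.maximalIdeal A) A] in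
theorem exists_iso_closedFibre {X : Scheme.{u}} (f : X ⟶ Spec (CommRingCat.of A)) :
    ∃ a : f.fiber (IsLocalRing.closedPoint A) ⟶
        pullback f (Spec.map (CommRingCat.ofHom (IsLocalRing.residue A))),
      IsIso a ∧ a ≫ pullback.fst _ _ = f.fiberι _ ∧
      a ≫ pullback.snd _ _ =
        (f.fiberToSpecResidueField (IsLocalRing.closedPoint A) ≫
          Spec.map (Scheme.Spec.residueFieldIso (CommRingCat.of A) (IsLocalRing.closedPoint A)).inv) ≫
          Spec.map (CommRingCat.ofHom (toK (A := A))) := by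
  haveI := isIso_SpecMap_toK (A := A)
  have h := Fibre.isPullback_fiber f (IsLocalRing.closedPoint A)
  rw [← SpecMap_toK_comp] at h
  have h' : IsPullback (f.fiberι (IsLocalRing.closedPoint A))
      ((f.fiberToSpecResidueField (IsLocalRing.closedPoint A) ≫
          Spec.map (Scheme.Spec.residueFieldIso (CommRingCat.of A) (IsLocalRing.closedPoint A)).inv) ≫
          Spec.map (CommRingCat.ofHom (toK (A := A)))) f
      (Spec.map (CommRingCat.ofHom (IsLocalRing.residue A))) := by
    refine h.of_iso (Iso.refl _) (Iso.refl _) (asIso (Spec.map (CommRingCat.ofHom (toK (A := A)))))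
      (Iso.refl _) ?_ ?_ ?_ ?_ <;> simp
  exact ⟨h'.isoPullback.hom, inferInstance, h'.isoPullback_hom_fst, h'.isoPullback_hom_snd⟩

open Groth.Agent.PD92 in
/-- **Rigidity of projective space.** -/
theorem exists_iso {X : Scheme.{u}} (f : X ⟶ Spec (CommRingCat.of A)) [IsProper f] [Flat f] (r : ℕ)
    (v : f.fiber (IsLocalRing.closedPoint A) ⟶
      CohB1.ProjSpace r (IsLocalRing.closedPoint A).asIdeal.ResidueField) [IsIso v]
    (hv : v ≫ CohB1.ProjSpace.toSpec r _ =
      f.fiberToSpecResidueField (IsLocalRing.closedPoint A) ≫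
        Spec.map (Scheme.Spec.residueFieldIso (CommRingCat.of A) (IsLocalRing.closedPoint A)).inv) :
    ∃ e : X ≅ CohB1.ProjSpace r A, e.hom ≫ CohB1.ProjSpace.toSpec r A = f := by
  let x : PrimeSpectrum A := IsLocalRing.closedPoint A
  let K := x.asIdeal.ResidueField
  let Z : Type u := ULift.{u} ℤ
  let O1 := Twist.twistProjSpace r Z 1
  let κ : Spec (CommRingCat.of K) ⟶ Spec (CommRingCat.of A) :=
    Spec.map (CommRingCat.ofHom (algebraMap A K))
  letI : X.Over (Spec (CommRingCat.of A)) := ⟨f⟩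
  haveI : IsProper (X ↘ Spec (CommRingCat.of A)) := ‹IsProper f›
  letI : (f.fiber x).Over (Spec (CommRingCat.of K)) :=
    ⟨f.fiberToSpecResidueField x ≫ Spec.map (Scheme.Spec.residueFieldIso (CommRingCat.of A) x).inv⟩
  let p₀ := f.fiber x ↘ Spec (CommRingCat.of K)
  have hsq : IsPullback (f.fiberι x) p₀ f κ := Fibre.isPullback_fiber f x
  -- the embedding of the closed fibre
  let i : f.fiber x ⟶ CohB1.ProjSpaceOver r (Spec (CommRingCat.of K)) := v ≫ (overSpecIso r K).inv
  have hi : i ≫ CohB1.ProjSpaceOver.toBase r (Spec (CommRingCat.of K)) = p₀ := by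
    rw [Category.assoc, overSpecIso_inv_toBase]
    exact hv
  have hifst : i ≫ pullback.fst _ _ = v ≫ projMap r (ulz K) := by
    rw [← overSpecIso_hom_projMap r K]
    exact (Category.assoc _ _ _).trans (congrArg (v ≫ ·) ((overSpecIso r K).inv_hom_id_assoc _))
  let L' := (Scheme.Modules.pullback (i ≫ pullback.fst _ _)).obj O1
  have hL' : PicF.IsInvertible L' := PicLoc.isInvertible_pullback _ (isInvertible_O1 r)
  -- lift the line bundle
  obtain ⟨a, ha, hafst, -⟩ := exists_iso_closedFibre f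
  have h2 : Subsingleton (Coh.HH (pullback f (Spec.map (CommRingCat.ofHom (IsLocalRing.residue A))))
      (Coh.structureModule _) 2) :=
    Groth.Agent.Lib.SqZeroLift.Criteria.subsingleton_HH_of_iso
      ((Scheme.Modules.pullback (inv a ≫ v)).mapIso ProjCoh.Coherent.twZero ≪≫
        PicLoc.pullbackStructureIso (inv a ≫ v))
      (subsingleton_HH_twist r (inv a ≫ v) (d := 0) (by omega) (by omega))
  obtain ⟨M, hM, ⟨μ⟩⟩ := Groth.Agent.S11763.result A f h2 _
    (PicLoc.isInvertible_pullback (inv a) hL')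
  let φ₀ : (Scheme.Modules.pullback (f.fiberι x)).obj M ≅ L' :=
    (Scheme.Modules.pullbackCongr hafst.symm).app M ≪≫
      ((Scheme.Modules.pullbackComp a _).app M).symm ≪≫
      (Scheme.Modules.pullback a).mapIso μ ≪≫
      (Scheme.Modules.pullbackComp a (inv a)).app L' ≪≫
      (Scheme.Modules.pullbackCongr (IsIso.hom_inv_id a)).app L' ≪≫
      (Scheme.Modules.pullbackId (f.fiber x)).app L'
  -- lift the coordinates
  haveI : IsLocallyNoetherian X := LocallyOfFiniteType.isLocallyNoetherian f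
  have hlf := LocFree.of_rank (LocFree.of_isInvertible hM)
  have hcoh : Coh.IsCoh M := Perfect.Coherent.isCoh_of_isFinLocFree hlf
  haveI : M.IsQuasicoherent := hcoh.1
  have hfl : FlatMod.IsFlatOver f M := NearFibre.isFlatOver_of_isFinLocFree f hlf
  have hrank : CohIII.fiberRank f M 1 x = 0 := by
    haveI : Subsingleton (CohIII.fiberH f M x 1) := by
      obtain ⟨τ⟩ : Nonempty ((Scheme.Modules.pullback (projMap r (ulz K))).obj O1 ≅
          ProjCoh.Coherent.tw r K 1) :=
        Groth.Agent.Lib.ProperFin.ProjFacts.nonempty_pullback_O r Z K (ulz K) 1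
      exact Groth.Agent.Lib.SqZeroLift.Criteria.subsingleton_HH_of_iso
        ((Scheme.Modules.pullback v).mapIso τ.symm ≪≫
          (Scheme.Modules.pullbackComp v _).app O1 ≪≫
          (Scheme.Modules.pullbackCongr hifst.symm).app O1 ≪≫ φ₀.symm)
        (subsingleton_HH_twist r v (d := 1) (by omega) (by omega))
    exact Module.finrank_zero_of_subsingleton
  obtain ⟨T₀, hT₀⟩ : ∃ T₀ : Fin (r + 1) → ProjUP.Γm ((Scheme.Modules.pullback (f.fiberι x)).obj M),
      ∀ m, T₀ m = φ₀.inv.app ⊤ (ProjUP.pullSec (i ≫ pullback.fst _ _) O1 (ProjUP.coord r Z m)) :=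
    ⟨_, fun m => rfl⟩
  obtain ⟨σ, t, ht⟩ := exists_lift_family x hsq M hcoh hfl
    (fun P _ _ e₁ => ((Fibre.fiberRank_eq f M x e₁).symm.trans hrank)) T₀
  obtain ⟨φ, hφ⟩ : ∃ φ : (Scheme.Modules.pullback (f.fiberι x)).obj M ≅ L',
      ∀ m, φ.hom.app ⊤ (ProjUP.pullSec (f.fiberι x) M (t m)) =
        ProjUP.pullSec (i ≫ pullback.fst _ _) O1 (ProjUP.coord r Z m) :=
    ⟨σ ≪≫ φ₀, fun m => app_inv_app σ φ₀ _ _ ((ht m).trans (hT₀ m))⟩
  -- the sections generate
  have hgen : ∀ z : X, ∃ m, z ∈ locus (t m) := by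
    have htop : (⨆ m, locus (t m)) = (⊤ : X.Opens) := ClosedFibreIso.eq_top f _ fun z hz => by
      obtain ⟨z', rfl⟩ : z ∈ Set.range (f.fiberι x) := (f.range_fiberι x).ge hz
      exact exists_mem_locus (f.fiberι x) r M hM _ t φ hφ z'
    exact fun z => Opens.mem_iSup.1 (htop.ge trivial)
  -- the morphism
  obtain ⟨ρ, hρ, τ, hτ⟩ := Poly.exists_map r Z (f ≫ specULiftZIsTerminal.from _) M hM t
    (Embed.generatedBy_of_locus t hgen)
  let π := CohB1.ProjSpaceOver.toBase r (Spec (CommRingCat.of A))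
  let j : X ⟶ CohB1.ProjSpaceOver r (Spec (CommRingCat.of A)) := pullback.lift ρ f hρ
  have hjπ : j ≫ π = f := pullback.lift_snd _ _ _
  have hjr : j ≫ pullback.fst _ _ = ρ := pullback.lift_fst _ _ _
  have hgr : f.fiberι x ≫ ρ = i ≫ pullback.fst _ _ :=
    comp_eq_of_sections (f.fiberι x) r M ρ _ t τ hτ φ hφ
  have hbig : IsPullback (f.fiberι x) i j (overMap r κ) := by
    refine IsPullback.of_bot ?_ ?_ (isPullback_overMap r κ)
    · rw [hi, hjπ]
      exact hsq
    · apply pullback.hom_ext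
      · refine (Category.assoc _ j _).trans (((congrArg (f.fiberι x ≫ ·) hjr).trans hgr).trans ?_)
        exact (congrArg (i ≫ ·) (overMap_fst r κ)).symm.trans (Category.assoc i _ _).symm
      · refine (Category.assoc _ j _).trans (((congrArg (f.fiberι x ≫ ·) hjπ).trans hsq.w).trans ?_)
        refine Eq.trans ?_ ((congrArg (i ≫ ·) (overMap_toBase r κ)).symm.trans (Category.assoc i _ _).symm)
        rw [← Category.assoc, hi]
  haveI : IsIso j := ClosedFibreIso.isIso_of_closedFibre f π j (f.fiberι x) i (overMap r κ) _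
    (isPullback_overMap r κ) hbig hjπ
  refine ⟨asIso j ≪≫ overSpecIso r A, ?_⟩
  rw [Iso.trans_hom, Category.assoc, overSpecIso_hom_toSpec]
  exact hjπ

end

end Groth.Agent.PD92.ProjDeform
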